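import Mathlib
import Groth.Agent.CMFlatLib.FlatLocal
import Groth.Agent.LiaisonLib.Basic
import Groth.Agent.CMCat.Polynomial
import Groth.Agent.RatliffLib.Formal
import Groth.Agent.S0555
import Groth.Agent.S4568
import Groth.Prelude.Def_EGA4b

/-!
# Finiteness of the intersection of the height one localizations
-/

set_option autoImplicit false
set_option linter.style.haveILetI false

universe u

namespace Groth.Agent.HullFinLib

/-- Quotients of Cohen–Macaulay rings by regular elements are Cohen–Macaulay. -/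
theorem cm_quotient_span_singleton {R : Type u} [CommRing R] [LocCoh.IsCohenMacaulayRing R] (x : R)
    (hx : IsSMulRegular R x) : LocCoh.IsCohenMacaulayRing (R ⧸ Ideal.span {x}) := by
  refine { isCohenMacaulayLocalRing_localization := fun p _ => ?_ }
  let I := Ideal.span ({x} : Set R)
  let p' := p.comap (Ideal.Quotient.mk I)
  let L := Localization.AtPrime p'
  haveI : LocCoh.IsCohenMacaulayLocalRing L :=
    LocCoh.IsCohenMacaulayRing.isCohenMacaulayLocalRing_localization p'
  have hxp : x ∈ p' := by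
    show Ideal.Quotient.mk I x ∈ p
    rw [Ideal.Quotient.eq_zero_iff_mem.2 (Ideal.mem_span_singleton_self x)]
    exact zero_mem _
  have hxm : algebraMap R L x ∈ IsLocalRing.maximalIdeal L := by
    rw [← Localization.AtPrime.map_eq_maximalIdeal]
    exact Ideal.mem_map_of_mem _ hxp
  have hreg : IsSMulRegular L (algebraMap R L x) := by
    intro a b hab
    obtain ⟨a, s, rfl⟩ := IsLocalization.exists_mk'_eq p'.primeCompl a
    obtain ⟨b, t, rfl⟩ := IsLocalization.exists_mk'_eq p'.primeCompl b
    simp only [smul_eq_mul, IsLocalization.mul_mk'_eq_mk'_of_mul, IsLocalization.mk'_eq_iff_eq,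
      IsLocalization.eq_iff_exists p'.primeCompl L] at hab ⊢
    obtain ⟨c, hc⟩ := hab
    refine ⟨c, hx ?_⟩
    show x * _ = x * _
    linear_combination hc
  have h := (CMFlatLib.cm_quot_iff L hxm hreg).1 inferInstance
  have hI : I.map (algebraMap R L) = Ideal.span {algebraMap R L x} := by rw [Ideal.map_span, Set.image_singleton]
  rw [← hI] at h
  haveI : IsLocalization.AtPrime (L ⧸ I.map (algebraMap R L)) p := by
    have hM : Algebra.algebraMapSubmonoid (R ⧸ I) p'.primeCompl = p.primeCompl := by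
      ext y
      refine ⟨?_, fun hy => ?_⟩
      · rintro ⟨z, hz, rfl⟩; exact hz
      · obtain ⟨z, rfl⟩ := Ideal.Quotient.mk_surjective y
        exact ⟨z, hy, rfl⟩
    have := (inferInstance : IsLocalization (Algebra.algebraMapSubmonoid (R ⧸ I) p'.primeCompl) (L ⧸ I.map (algebraMap R L)))
    rw [hM] at this
    exact this
  haveI := h
  exact CMCat.isCohenMacaulayLocalRing_of_ringEquiv
    ((IsLocalization.algEquiv p.primeCompl (L ⧸ I.map (algebraMap R L)) (Localization.AtPrime p)).toRingEquiv)

/-- An element of a set avoiding finitely many primes. -/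
theorem exists_notMem_of_finite {R : Type u} [CommRing R] (D : Ideal R) (S : Set (Ideal R)) (hS : S.Finite)
    (hp : ∀ Q ∈ S, Q.IsPrime) (hD : ∀ Q ∈ S, ¬ D ≤ Q) : ∃ x ∈ D, ∀ Q ∈ S, x ∉ Q := by
  by_contra hcon
  push_neg at hcon
  have hsub : (D : Set R) ⊆ ⋃ i ∈ (hS.toFinset : Set (Ideal R)), ((id i : Ideal R) : Set R) := fun x hx => by
    obtain ⟨Q, hQ, hxQ⟩ := hcon x hx
    exact Set.mem_biUnion (hS.mem_toFinset.2 hQ) hxQ
  obtain ⟨i, hi, hle⟩ := (Ideal.subset_union_prime (s := hS.toFinset) (f := id) ⊥ ⊥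
    (fun Q hQ _ _ => hp Q (hS.mem_toFinset.1 hQ))).1 hsub
  exact hD i (hS.mem_toFinset.1 hi) hle

/-- A nonzero divisor avoiding the associated primes. -/
theorem isSMulRegular_of_notMem {R M : Type u} [CommRing R] [IsNoetherianRing R] [AddCommGroup M] [Module R M] (x : R)
    (h : ∀ Q ∈ associatedPrimes R M, x ∉ Q) : IsSMulRegular M x := by
  rw [isSMulRegular_iff_right_eq_zero_of_smul]
  intro m hm
  by_contra hne
  have hx : x ∈ {r : R | ∃ y : M, y ≠ 0 ∧ r • y = 0} := ⟨m, hne, hm⟩
  rw [← biUnion_associatedPrimes_eq_zero_divisors R M] at hx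
  obtain ⟨Q, hQ, hxQ⟩ := Set.mem_iUnion₂.1 hx
  exact h Q hQ hxQ

/-- Every prime of a Cohen–Macaulay ring becomes minimal in a Cohen–Macaulay quotient. -/
theorem exists_cm_quotient_minimal {R : Type u} [CommRing R] [LocCoh.IsCohenMacaulayRing R] (P : Ideal R) [P.IsPrime] :
    ∃ I : Ideal R, I ≤ P ∧ LocCoh.IsCohenMacaulayRing (R ⧸ I) ∧ (P.map (Ideal.Quotient.mk I)).height = 0 := by
  let S := {I : Ideal R | I ≤ P ∧ LocCoh.IsCohenMacaulayRing (R ⧸ I)}
  have hne : S.Nonempty := ⟨⊥, bot_le, CMCat.isCohenMacaulayRing_of_ringEquiv (RingEquiv.quotientBot R).symm⟩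
  obtain ⟨I, ⟨hIP, hcm⟩, hmax⟩ := set_has_maximal_iff_noetherian.2 (inferInstance : IsNoetherian R R) S hne
  haveI := hcm
  refine ⟨I, hIP, hcm, ?_⟩
  by_contra h0
  let P' := P.map (Ideal.Quotient.mk I)
  haveI : P'.IsPrime := Ideal.isPrime_map_quotientMk_of_isPrime hIP
  obtain ⟨x, hxP, hx⟩ := exists_notMem_of_finite P' _ (associatedPrimes.finite (R ⧸ I) (R ⧸ I))
    (fun Q hQ => hQ.isPrime) fun Q hQ hle => h0 (le_antisymm
      ((Ideal.height_mono hle).trans (LiaisonLib.height_eq_zero_of_mem_associatedPrimes hQ).le) bot_le)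
  have hreg : IsSMulRegular (R ⧸ I) x := isSMulRegular_of_notMem x hx
  obtain ⟨y, rfl⟩ := Ideal.Quotient.mk_surjective x
  have hyP : y ∈ P := by
    have h := (Ideal.mem_comap (f := Ideal.Quotient.mk I)).2 hxP
    rwa [Ideal.comap_map_mk hIP] at h
  have hyI : y ∉ I := fun hy => by
    rw [Ideal.Quotient.eq_zero_iff_mem.2 hy] at hreg
    haveI : Nontrivial (R ⧸ I) := Ideal.Quotient.nontrivial_iff.2 (ne_top_of_le_ne_top (Ideal.IsPrime.ne_top ‹_›) hIP)
    exact one_ne_zero (hreg (a₁ := (1 : R ⧸ I)) (a₂ := 0) (by simp))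
  haveI := cm_quotient_span_singleton _ hreg
  refine hmax (I ⊔ Ideal.span {y}) ⟨sup_le hIP (Ideal.span_le.2 (Set.singleton_subset_iff.2 hyP)), ?_⟩
    (lt_of_le_of_ne le_sup_left fun h => hyI (h ▸ Ideal.mem_sup_right (Ideal.mem_span_singleton_self y)))
  refine CMCat.isCohenMacaulayRing_of_ringEquiv (A := (R ⧸ I) ⧸ Ideal.span {Ideal.Quotient.mk I y}) ?_
  exact (Ideal.quotEquivOfEq (by rw [Ideal.map_span, Set.image_singleton])).trans
    (DoubleQuot.quotQuotEquivQuotSup I (Ideal.span {y}))

/-- The intersection of the height one localizations as a subalgebra. -/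
def hullSubalgebra (B : Type u) [CommRing B] [IsDomain B] : Subalgebra B (FractionRing B) where
  carrier := EGA4.heightOneHull B
  mul_mem' {x y} hx hy := fun p _ hp => by
    obtain ⟨s, hs, a, ha⟩ := hx p hp
    obtain ⟨t, ht, b, hb⟩ := hy p hp
    refine ⟨s * t, fun h => (Ideal.IsPrime.mem_or_mem ‹_› h).elim hs ht, a * b, ?_⟩
    rw [map_mul, map_mul, ha, hb]; ring
  add_mem' {x y} hx hy := fun p _ hp => by
    obtain ⟨s, hs, a, ha⟩ := hx p hp
    obtain ⟨t, ht, b, hb⟩ := hy p hp
    refine ⟨s * t, fun h => (Ideal.IsPrime.mem_or_mem ‹_› h).elim hs ht, a * t + b * s, ?_⟩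
    rw [map_add, map_mul, map_mul, map_mul, ha, hb]; ring
  algebraMap_mem' r := fun p hp _ =>
    ⟨1, fun h => hp.ne_top ((Ideal.eq_top_iff_one p).2 h), r, by rw [map_one, one_mul]⟩

/-- A domain which is the quotient of a Cohen–Macaulay ring by a minimal prime has finite height one hull. -/
theorem heightOneHullFinite_of_minimal {G B : Type u} [CommRing G] [CommRing B] [IsDomain B] [Algebra G B]
    [LocCoh.IsCohenMacaulayRing G] (hsurj : Function.Surjective (algebraMap G B))
    (hmin : (RingHom.ker (algebraMap G B)).height = 0) : EGA4.HeightOneHullFinite B := by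
  classical
  let f := algebraMap G B
  let K := FractionRing B
  let 𝔭 := RingHom.ker f
  haveI : 𝔭.IsPrime := RingHom.ker_isPrime _
  haveI : IsNoetherianRing B := isNoetherianRing_of_surjective G B f hsurj
  let ω : Submodule G G :=
    { carrier := {g | ∀ p ∈ 𝔭, p * g = 0}
      add_mem' := fun hx hy p hp => by rw [mul_add, hx p hp, hy p hp, add_zero]
      zero_mem' := fun p _ => mul_zero p
      smul_mem' := fun c x hx p hp => by rw [smul_eq_mul, mul_left_comm, hx p hp, mul_zero] }
  have h𝔭ass : 𝔭 ∈ associatedPrimes G G :=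
    Module.associatedPrimes.minimalPrimes_annihilator_subset_associatedPrimes G G
      (by rw [Module.annihilator_eq_bot.2 inferInstance]; exact Ideal.height_eq_zero_iff.1 hmin)
  obtain ⟨-, g₀, hg₀⟩ := isAssociatedPrime_iff.1 h𝔭ass
  have hmem₀ : g₀ ∈ ω := fun p hp => by
    rw [hg₀, Submodule.mem_colon_singleton, Submodule.mem_bot] at hp
    exact hp
  obtain ⟨n, v, hv⟩ := Submodule.fg_iff_exists_fin_generating_family.1 (IsNoetherian.noetherian ω)
  have hvω : ∀ i, v i ∈ ω := fun i => hv ▸ Submodule.subset_span ⟨i, rfl⟩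
  -- denominators
  have key : ∀ x : K, x ∈ EGA4.heightOneHull B → ∃ t₁ a₁ : G, IsSMulRegular G t₁ ∧ f t₁ ≠ 0 ∧
      algebraMap B K (f t₁) * x = algebraMap B K (f a₁) ∧
      ∀ g ∈ ω, ∃ h ∈ ω, t₁ * h = a₁ * g := by
    intro x hx
    let D : Ideal G :=
      { carrier := {t | ∃ a : G, algebraMap B K (f t) * x = algebraMap B K (f a)}
        add_mem' := fun {t t'} ⟨a, ha⟩ ⟨a', ha'⟩ => ⟨a + a', by rw [map_add, map_add, map_add, map_add, add_mul, ha, ha']⟩
        zero_mem' := ⟨0, by simp⟩
        smul_mem' := fun c t ⟨a, ha⟩ => ⟨c * a, by simp only [smul_eq_mul, map_mul]; rw [mul_assoc, ha]⟩ }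
    have h𝔭D : 𝔭 ≤ D := fun t ht => ⟨0, by rw [show f t = 0 from ht, map_zero, map_zero, map_zero, zero_mul]⟩
    have hht : ∀ Q : Ideal G, Q.IsPrime → D ≤ Q → ¬ Q.height ≤ 1 := by
      intro Q hQ hDQ hQ1
      haveI := hQ
      have hkQ : 𝔭 ≤ Q := h𝔭D.trans hDQ
      haveI hQB : (Q.map f).IsPrime := Ideal.map_isPrime_of_surjective hsurj hkQ
      have hcm : (Q.map f).comap f = Q := by
        rw [Ideal.comap_map_of_surjective _ hsurj, ← RingHom.ker_eq_comap_bot]; exact sup_eq_left.2 hkQ
      have hle1 : (Q.map f).height ≤ 1 := by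
        have h1 := PrimeSpectrum.height_eq_orderHeight (⟨Q, hQ⟩ : PrimeSpectrum G)
        have h2 := PrimeSpectrum.height_eq_orderHeight (⟨Q.map f, hQB⟩ : PrimeSpectrum B)
        have h3 := Order.height_le_height_apply_of_strictMono (PrimeSpectrum.comap f)
          (RingHom.strictMono_comap_of_surjective hsurj) (⟨Q.map f, hQB⟩ : PrimeSpectrum B)
        rw [show PrimeSpectrum.comap f ⟨Q.map f, hQB⟩ = ⟨Q, hQ⟩ from PrimeSpectrum.ext hcm, ← h1, ← h2] at h3
        exact h3.trans hQ1
      rcases le_iff_lt_or_eq.1 hle1 with h | h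
      · have h0 : (Q.map f).height = 0 := by
          rwa [ENat.lt_one_iff_eq_zero] at h
        rw [Ideal.height_eq_zero_iff_eq_bot] at h0
        obtain ⟨a, s, hs, hax⟩ := IsFractionRing.div_surjective B x
        obtain ⟨s', rfl⟩ := hsurj s
        obtain ⟨a', rfl⟩ := hsurj a
        have hsD : s' ∈ D := ⟨a', by
          rw [← hax, mul_div_cancel₀ _ (IsFractionRing.to_map_ne_zero_of_mem_nonZeroDivisors hs)]⟩
        have h' : f s' ∈ Q.map f := Ideal.mem_map_of_mem _ (hDQ hsD)
        rw [h0, Ideal.mem_bot] at h'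
        exact nonZeroDivisors.ne_zero hs h'
      · obtain ⟨s, hs, a, ha⟩ := hx (Q.map f) h
        obtain ⟨s', rfl⟩ := hsurj s
        obtain ⟨a', rfl⟩ := hsurj a
        exact hs (Ideal.mem_map_of_mem _ (hDQ ⟨a', ha.symm⟩))
    obtain ⟨t₁, ht₁D, ht₁⟩ := exists_notMem_of_finite D _ (associatedPrimes.finite G G) (fun Q hQ => hQ.isPrime)
      fun Q hQ hle => hht Q hQ.isPrime hle ((LiaisonLib.height_eq_zero_of_mem_associatedPrimes hQ).le.trans zero_le_one)
    have hreg₁ : IsSMulRegular G t₁ := isSMulRegular_of_notMem t₁ ht₁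
    obtain ⟨a₁, ha₁⟩ := ht₁D
    haveI := cm_quotient_span_singleton t₁ hreg₁
    let G' := G ⧸ Ideal.span {t₁}
    let q := Ideal.Quotient.mk (Ideal.span {t₁})
    obtain ⟨t₂', ht₂D, ht₂⟩ := exists_notMem_of_finite (D.map q) _ (associatedPrimes.finite G' G')
      (fun Q hQ => hQ.isPrime) fun Q hQ hle => by
        haveI := hQ.isPrime
        have hQ0 := LiaisonLib.height_eq_zero_of_mem_associatedPrimes hQ
        refine hht (Q.comap q) (Ideal.IsPrime.comap _) (Ideal.map_le_iff_le_comap.1 hle) ?_
        refine Ideal.height_le_one_of_isPrincipal_of_mem_minimalPrimes (Ideal.span {t₁}) _ ?_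
        have := Ideal.height_eq_zero_iff.1 hQ0
        have hb : Ideal.comap q ⊥ = Ideal.span {t₁} :=
          (RingHom.ker_eq_comap_bot q).symm.trans Ideal.mk_ker
        refine (congrArg (fun J : Ideal G => Ideal.comap q Q ∈ J.minimalPrimes) hb).mp ?_
        exact Ideal.minimalPrimes_comap_of_surjective Ideal.Quotient.mk_surjective this
    have hreg₂ : IsSMulRegular G' t₂' := isSMulRegular_of_notMem t₂' ht₂
    obtain ⟨t₂, ⟨a₂, ha₂⟩, rfl⟩ := (Ideal.mem_map_iff_of_surjective _ Ideal.Quotient.mk_surjective).1 ht₂D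
    have hft : f t₁ ≠ 0 := fun h => ht₁ 𝔭 h𝔭ass h
    refine ⟨t₁, a₁, hreg₁, hft, ha₁, fun g hg => ?_⟩
    have hker : t₂ * a₁ - t₁ * a₂ ∈ 𝔭 := by
      refine IsFractionRing.injective B K ?_
      rw [map_sub, map_mul, map_mul, map_sub, map_mul, map_mul, map_zero, ← ha₁, ← ha₂]
      ring
    have h0 : t₂ * (a₁ * g) = t₁ * (a₂ * g) := by
      have h := hg _ hker
      linear_combination h
    have hq : q (a₁ * g) = 0 := by
      refine hreg₂ ?_
      show q t₂ • q (a₁ * g) = q t₂ • (0 : G')
      rw [smul_zero, smul_eq_mul, ← map_mul, h0, map_mul, Ideal.Quotient.eq_zero_iff_mem.2 (Ideal.mem_span_singleton_self t₁), zero_mul]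
    obtain ⟨h, hh⟩ := Ideal.mem_span_singleton'.1 (Ideal.Quotient.eq_zero_iff_mem.1 hq)
    refine ⟨h, fun p hp => hreg₁ ?_, by rw [mul_comm, hh]⟩
    show t₁ * (p * h) = t₁ * 0
    rw [mul_zero, mul_left_comm, mul_comm t₁, hh, mul_left_comm, hg p hp, mul_zero]
  -- the embedding in a power of `ω`
  let S : Submodule G K := ((hullSubalgebra B).toSubmodule).restrictScalars G
  choose! t a hreg hne hta hω using key
  choose! h hhω hh using hω
  have uniq : ∀ (x : K), x ∈ EGA4.heightOneHull B → ∀ (s b : G), algebraMap B K (f s) * x = algebraMap B K (f b) →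
      ∀ g ∈ ω, s * h x g = b * g := by
    intro x hx s b hsb g hg
    refine hreg x hx ?_
    show t x * (s * h x g) = t x * (b * g)
    have hker : s * a x - t x * b ∈ 𝔭 := by
      refine IsFractionRing.injective B K ?_
      rw [map_sub, map_mul, map_mul, map_sub, map_mul, map_mul, map_zero, ← hta x hx, ← hsb]
      ring
    have h1 := hg _ hker
    rw [mul_left_comm, hh x hx g hg]
    linear_combination h1
  let Φ : S →ₗ[G] (Fin n → G) :=
    { toFun := fun x i => h x.1 (v i)
      map_add' := fun x y => by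
        funext i
        show h ((x : K) + y) (v i) = h x (v i) + h y (v i)
        refine hreg _ x.2 (hreg _ y.2 ?_)
        show t y * (t x * h (x + y) (v i)) = t y * (t x * (h x (v i) + h y (v i)))
        rw [← mul_assoc, uniq ((x : K) + y) (x + y).2 (t y * t x) (t y * a x + t x * a y)
          (by rw [map_mul, map_mul, map_add, map_mul, map_mul, map_add, map_mul, map_mul, ← hta _ x.2, ← hta _ y.2]; ring)
          _ (hvω i), mul_add, mul_add, hh x x.2 _ (hvω i), mul_left_comm (t y) (t x), hh y y.2 _ (hvω i)]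
        ring
      map_smul' := fun c x => by
        funext i
        show h ((c • (x : K))) (v i) = c * h x (v i)
        refine hreg _ x.2 ?_
        show t x * h (c • (x : K)) (v i) = t x * (c * h x (v i))
        rw [uniq (c • (x : K)) (c • x).2 (t x) (c * a x)
          (by rw [map_mul, map_mul, ← hta _ x.2, Algebra.smul_def, IsScalarTower.algebraMap_apply G B K]; ring)
          _ (hvω i), mul_left_comm (t x) c, hh x x.2 _ (hvω i), mul_assoc] }
  have hΦ : Function.Injective Φ := by
    rw [injective_iff_map_eq_zero]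
    intro x hx
    have hall : ∀ g ∈ ω, a x * g = 0 := by
      intro g hg
      rw [← hv] at hg
      induction hg using Submodule.span_induction with
      | mem g hg =>
        obtain ⟨i, rfl⟩ := hg
        rw [← hh x x.2 _ (hvω i), show h x (v i) = 0 from congrFun hx i, mul_zero]
      | zero => exact mul_zero _
      | add _ _ _ _ h1 h2 => rw [mul_add, h1, h2, add_zero]
      | smul c _ _ h1 => rw [smul_eq_mul, mul_left_comm, h1, mul_zero]
    have ha0 : a x ∈ 𝔭 := by
      rw [hg₀, Submodule.mem_colon_singleton, Submodule.mem_bot]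
      exact hall g₀ hmem₀
    have h1 := hta x x.2
    rw [show f (a x) = 0 from ha0, map_zero, mul_eq_zero] at h1
    exact Subtype.ext (h1.resolve_left ((map_ne_zero_iff _ (IsFractionRing.injective B K)).2 (hne x x.2)))
  haveI : Module.Finite G S := Module.Finite.of_injective Φ hΦ
  refine ⟨hullSubalgebra B, rfl, ?_⟩
  haveI : Module.Finite G (hullSubalgebra B) := inferInstanceAs (Module.Finite G S)
  exact Module.Finite.of_restrictScalars_finite G B (hullSubalgebra B)

/-- Domains which are quotients of regular rings have finite height one hull. -/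
theorem heightOneHullFinite_of_regular {R B : Type u} [CommRing R] [IsRegularRing R] [CommRing B] [IsDomain B]
    (f : R →+* B) (hf : Function.Surjective f) : EGA4.HeightOneHullFinite B := by
  haveI : LocCoh.IsCohenMacaulayRing R :=
    { isCohenMacaulayLocalRing_localization := fun p _ => RatliffLib.cm_of_regularLocal (Localization.AtPrime p) }
  haveI : (RingHom.ker f).IsPrime := RingHom.ker_isPrime _
  obtain ⟨I, hI, hcm, h0⟩ := exists_cm_quotient_minimal (RingHom.ker f)
  letI : Algebra (R ⧸ I) B := (Ideal.Quotient.lift I f fun r hr => hI hr).toAlgebra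
  haveI := hcm
  refine heightOneHullFinite_of_minimal (G := R ⧸ I) (Ideal.Quotient.lift_surjective_of_surjective I _ hf) ?_
  rw [show RingHom.ker (algebraMap (R ⧸ I) B) = (RingHom.ker f).map (Ideal.Quotient.mk I) from
    Ideal.ker_quotient_lift f _]
  exact h0

/-- Universally catenary domains with finite normalisation have finite height one hull. -/
theorem heightOneHullFinite_of_univCatenary (A : Type u) [CommRing A] [IsDomain A] [IsNoetherianRing A]
    (hA : CAlg.IsUniversallyCatenary A) (hint : Module.Finite A (integralClosure A (FractionRing A))) :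
    EGA4.HeightOneHullFinite A := by
  let K := FractionRing A
  have h4568 := S4568.result (A := A) fun C hC hfin q _ hq => by
    haveI := hfin
    haveI : FaithfulSMul A C := (faithfulSMul_iff_algebraMap_injective _ _).2 fun x y h =>
      IsFractionRing.injective A K (congrArg Subtype.val h)
    haveI : (q.comap (algebraMap A C)).IsPrime := Ideal.IsPrime.comap _
    haveI : q.LiesOver (q.comap (algebraMap A C)) := ⟨rfl⟩
    haveI : Algebra.FiniteType A C := inferInstance
    have h := S0555.result A hA C (q.comap (algebraMap A C)) q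
    haveI : Algebra.IsIntegral A C := Algebra.IsIntegral.of_finite A C
    haveI : Algebra.IsAlgebraic A C := Algebra.IsIntegral.isAlgebraic
    haveI : Algebra.IsIntegral (A ⧸ q.comap (algebraMap A C)) (C ⧸ q) := inferInstance
    haveI : Algebra.IsAlgebraic (A ⧸ q.comap (algebraMap A C)) (C ⧸ q) := Algebra.IsIntegral.isAlgebraic
    rw [trdeg_eq_zero, trdeg_eq_zero, add_zero, add_zero, hq] at h
    exact_mod_cast h.symm
  have hsub : hullSubalgebra A ≤ integralClosure A K := by
    intro x hx
    show x ∈ (integralClosure A K : Set K)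
    rw [h4568]
    refine Set.mem_iInter₂.2 fun p hp => ?_
    obtain ⟨s, hs, a, ha⟩ := hx p.asIdeal hp
    exact ⟨s, hs, by rw [← ha]; exact Subalgebra.algebraMap_mem _ a⟩
  refine ⟨hullSubalgebra A, rfl, ?_⟩
  haveI := hint
  exact Module.Finite.of_injective (Subalgebra.inclusion hsub).toLinearMap (Subalgebra.inclusion_injective hsub)

end Groth.Agent.HullFinLib
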